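import Groth.Prelude.Def_PCoh
import Groth.Agent.DQCoh.ResProp17
import Groth.Agent.DQCoh.DQCohEquiv17
import Groth.Agent.DQCoh.DQCohNoeth17
import Groth.Agent.DQCoh.PscNoeth
import Groth.Agent.DQCoh.RelTorBC
import Groth.Agent.FlatCx12.PscInduction
import Groth.Agent.PCohLib.Infinite
import Groth.Agent.Desc19b.ResProp
import Groth.Agent.MorProj.InvTensor

/-!
# Global resolutions by an ample family (SGA6 II 2.2.7-2.2.8)
-/

set_option autoImplicit false
set_option backward.isDefEq.respectTransparency false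
set_option backward.defeqAttrib.useBackward true
set_option linter.style.haveILetI false
set_option linter.unusedSectionVars false
set_option synthInstance.maxHeartbeats 100000
set_option maxHeartbeats 1600000
set_option backward.isDefEq.respectTransparency.types false

universe u

open CategoryTheory CategoryTheory.Limits CategoryTheory.Pretriangulated DerivedCategory AlgebraicGeometry TopologicalSpace HomologicalComplex
open Groth.Agent.DCat Groth.Agent.Coherent Groth.Agent.DQCoh Groth.Agent.DQCoh.DQCohEquiv17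

namespace Groth.Agent.AmpleRes28

attribute [local instance] HasDerivedCategory.standard
attribute [-instance] Int.instConditionallyCompleteLinearOrder

variable {X : Scheme.{u}} {ι : Type u} {L : ι → X.Modules}

local instance : HasFiniteBiproducts X.Modules := Abelian.hasFiniteBiproducts

theorem inAddL_of_iso {M N : X.Modules} (e : M ≅ N) (h : KSix.InAddL L M) : KSix.InAddL L N := by
  obtain ⟨k, F, hF, ⟨i⟩⟩ := h
  exact ⟨k, F, hF, ⟨e.symm ≪≫ i⟩⟩

theorem inAddL_of_isZero {M : X.Modules} (h : IsZero M) : KSix.InAddL L M := by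
  refine ⟨0, Fin.elim0, fun j => j.elim0, ⟨h.iso ?_⟩⟩
  rw [IsZero.iff_id_eq_zero]
  exact biproduct.hom_ext _ _ fun j => j.elim0

theorem inAddL_biprod {M N : X.Modules} (hM : KSix.InAddL L M) (hN : KSix.InAddL L N) :
    KSix.InAddL L (M ⊞ N) := by
  obtain ⟨k, F, hF, ⟨a⟩⟩ := hM
  obtain ⟨l, G, hG, ⟨b⟩⟩ := hN
  refine ⟨k + l, Fin.append F G, fun j => ?_, ⟨biprod.mapIso a b ≪≫ ?_⟩⟩
  · refine Fin.addCases (fun i => ?_) (fun i => ?_) j
    · rw [Fin.append_left]; exact hF i
    · rw [Fin.append_right]; exact hG i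
  · refine ⟨biprod.desc (biproduct.desc fun i => eqToHom (Fin.append_left F G i).symm ≫ biproduct.ι (Fin.append F G) (Fin.castAdd l i))
        (biproduct.desc fun i => eqToHom (Fin.append_right F G i).symm ≫ biproduct.ι (Fin.append F G) (Fin.natAdd k i)),
      biproduct.desc (Fin.addCases (motive := fun j => Fin.append F G j ⟶ (⨁ F) ⊞ (⨁ G))
        (fun i => eqToHom (Fin.append_left F G i) ≫ biproduct.ι F i ≫ biprod.inl)
        (fun i => eqToHom (Fin.append_right F G i) ≫ biproduct.ι G i ≫ biprod.inr)), ?_, ?_⟩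
    · refine biprod.hom_ext' _ _ (biproduct.hom_ext' _ _ fun i => ?_) (biproduct.hom_ext' _ _ fun i => ?_)
      · simp
      · simp
    · refine biproduct.hom_ext' _ _ fun j => ?_
      refine Fin.addCases (fun i => ?_) (fun i => ?_) j
      · simp
      · simp

theorem isInvertible_of_isNegPower {M : X.Modules} (h : KSix.IsNegPower L M) : PicF.IsInvertible M := by
  obtain ⟨i, k, -, ⟨e⟩⟩ := h
  exact MorProj.isInvertible_of_tensor_iso e

theorem isFinLocFree_of_inAddL {M : X.Modules} (h : KSix.InAddL L M) : FlatMod.IsFinLocFree M := by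
  obtain ⟨k, F, hF, ⟨e⟩⟩ := h
  exact PerfTensor.isFinLocFree_of_iso ((biproduct.isoCoproduct F).symm ≪≫ e.symm)
    (PerfTensor.isFinLocFree_sigma F fun j => Coherent.isFinLocFree_of_invertible (isInvertible_of_isNegPower (hF j)))

variable (L)

/-- The class of quasi-coherent modules in `Add(L)`. -/
abbrev PL : ObjectProperty (QP X).FullSubcategory := fun M => KSix.InAddL L M.obj

instance : (PL L).IsClosedUnderIsomorphisms := ⟨fun e h => inAddL_of_iso ((QP X).ι.mapIso e) h⟩

instance : (PL L).ContainsZero := by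
  obtain ⟨Z, hZ⟩ := HasZeroObject.zero (C := (QP X).FullSubcategory)
  exact ⟨Z, hZ, inAddL_of_isZero ((QP X).ι.map_isZero hZ)⟩

theorem prop_prod (A B : (QP X).FullSubcategory) (hA : PL L A) (hB : PL L B) : PL L (A ⨯ B) :=
  inAddL_of_iso ((biprod.isoProd _ _) ≪≫ (asIso (prodComparison (QP X).ι A B)).symm) (inAddL_biprod hA hB)

variable {L}

theorem quasiLiftable (hL : KSix.IsAmpleFamily L) : PCoh.IsQuasiLiftable (PL L) := by
  intro E F p hp hF
  haveI := hL.1
  haveI := hL.2.1
  haveI : Coh.IsQCoh E.obj := E.property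
  haveI : Coh.IsQCoh F.obj := F.property
  haveI : Epi ((QP X).ι.map p) := inferInstance
  haveI : Coh.IsQCoh ((QP X).ι.obj E) := E.property
  haveI : Coh.IsQCoh ((QP X).ι.obj F) := F.property
  have hFT : CohB1.IsFT F.obj := by
    haveI : SheafOfModules.IsFinitePresentation.{u} (R := X.ringCatSheaf) F.obj :=
      Props12.isFP_of_isFinLocFree _ (isFinLocFree_of_inAddL hF)
    exact inferInstanceAs (SheafOfModules.IsFiniteType.{u} (R := X.ringCatSheaf) _)
  obtain ⟨G, v, hGq, hG, hv⟩ := ResProp17.exists_ft_lift ((QP X).ι.map p) hFT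
  obtain ⟨M, π, hM, hπ⟩ := Desc19b.exists_epi_inAddL L hL G hGq hG
  let F' : (QP X).FullSubcategory := ⟨M, PullPerf.isQCoh_of_finLocFree (isFinLocFree_of_inAddL hM)⟩
  refine ⟨F', ObjectProperty.homMk (π ≫ v), hM, (QP X).ι.epi_of_epi_map ?_⟩
  rw [Functor.map_comp]
  show Epi ((π ≫ v) ≫ (QP X).ι.map p)
  rw [Category.assoc]
  exact epi_comp _ _

theorem psc_of_terms_inAddL {G : CochainComplex X.Modules ℤ} (hG : ∃ b : ℤ, ∀ i, b < i → IsZero (G.X i))
    (hf : ∀ i, FlatMod.IsFinLocFree (G.X i)) (m : ℤ) : DCoh.IsPseudoCoherentD m (DerivedCategory.Q.obj G) := by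
  obtain ⟨b, hb⟩ := hG
  exact FlatCx12.PscInduction.psc_of_terms m (b - m + 1).toNat G (fun i hi => hb i (by omega))
    fun i => DQCoh.psc_inD_finLocFree (m - i) (hf i)

/-- Models by complexes of quasi-coherent modules. -/
theorem exists_model [CompactSpace X] (hX : X.IsSeparated ∨ IsNoetherian X) {E : DCoh.D X} (hE : DCoh.IsQCohD E) :
    ∃ K : CochainComplex (QP X).FullSubcategory ℤ,
      Nonempty (DCoh.toD X (((QP X).ι.mapHomologicalComplex _).obj K) ≅ E) := by
  obtain ⟨M, ⟨e⟩⟩ : ∃ M, Nonempty ((QP X).ι.mapDerivedCategory.obj M ≅ E) := by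
    rcases hX with h | h
    · refine (DQCohEquiv17.isQCohD_iff (fun U V hU hV => ?_) E).1 hE
      haveI := h
      exact hU.inf hV
    · exact (DQCohNoeth17.isQCohD_iff E).1 hE
  exact ⟨DerivedCategory.Q.objPreimage M,
    ⟨((QP X).ι.mapDerivedCategoryFactors.app _).symm ≪≫
      (QP X).ι.mapDerivedCategory.mapIso (DerivedCategory.Q.objObjPreimageIso M) ≪≫ e⟩⟩

/-- Resolution of a quasi-coherent complex by complexes with terms in `Add(L)`. -/
theorem exists_resolution (hL : KSix.IsAmpleFamily L) (K : CochainComplex (QP X).FullSubcategory ℤ)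
    (hK : ∀ m, DCoh.IsPseudoCoherentD m (DCoh.toD X (((QP X).ι.mapHomologicalComplex _).obj K))) (b : ℤ)
    (hb : ∀ i, b < i → IsZero ((((QP X).ι.mapHomologicalComplex _).obj K).homology i)) :
    ∃ F : CochainComplex X.Modules ℤ, (∀ i, b < i → IsZero (F.X i)) ∧ (∀ i, KSix.InAddL L (F.X i)) ∧
      Nonempty (DCoh.toD X F ≅ DCoh.toD X (((QP X).ι.mapHomologicalComplex _).obj K)) := by
  haveI := hL.1
  haveI := hL.2.1
  let R := (QP X).ι
  obtain ⟨G₀, hG₀⟩ : ∃ G₀ : CochainComplex (QP X).FullSubcategory ℤ, IsZero G₀ := HasZeroObject.zero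
  have h0 := fun i => (HomologicalComplex.eval (QP X).FullSubcategory (ComplexShape.up ℤ) i).map_isZero hG₀
  have hac : ∀ i, b + 1 ≤ i → IsZero (K.homology i) := fun i hi => by
    refine IsZero.of_full_of_faithful_of_isZero R _ ?_
    exact (hb i (by omega)).of_iso ((K.sc i).mapHomologyIso R).symm
  obtain ⟨E', v, u', -, hE', hq, -, hiso⟩ := PCohLib.exists_resolution_all (P := PL L) (prop_prod L)
    (quasiLiftable hL) (⟨⟨0, fun i _ => h0 i⟩, fun i => PCohLib.P_zero (h0 i)⟩ : PCoh.IsStrictPCAll (PL L) G₀)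
    (0 : G₀ ⟶ K) (b + 1) (PCohLib.nQis_zero hG₀ _ hac) (fun j G f hG hf => by
      let G' := (R.mapHomologicalComplex (ComplexShape.up ℤ)).obj G
      let f' : G' ⟶ _ := (R.mapHomologicalComplex (ComplexShape.up ℤ)).map f
      have hG' : DCoh.IsPseudoCoherentD (j + 1) (DerivedCategory.Q.obj G') := by
        obtain ⟨c, hc⟩ := hG.1
        exact psc_of_terms_inAddL ⟨c, fun i hi => R.map_isZero (hc i hi)⟩
          (fun i => isFinLocFree_of_inAddL (hG.2 i)) _
      have hC : DCoh.IsPseudoCoherentD j (DerivedCategory.Q.obj (CochainComplex.mappingCone f')) :=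
        PCTriangle.psc_cone (PCohLib.cone_distinguished f') hG' (hK j)
      let ec := fun i => ((HomologicalComplex.homologyFunctor _ _ i).mapIso
          (CochainComplex.mappingCone.mapHomologicalComplexIso f R).symm) ≪≫
        ((CochainComplex.mappingCone f).sc i).mapHomologyIso R
      have hFT : CohB1.IsFT (R.obj ((CochainComplex.mappingCone f).homology j)) := Coherent.isFT_of_epi
        (((DerivedCategory.homologyFunctorFactors X.Modules j).app _).hom ≫ (ec j).hom)
        ((top_of_psc j _ hC).1 fun i hi => by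
          refine IsZero.of_iso ?_ (((DerivedCategory.homologyFunctorFactors X.Modules i).app _) ≪≫ ec i)
          exact R.map_isZero ((PCohLib.nQis_iff_cone f (j + 1)).1 hf i (by omega)))
      obtain ⟨M, π, hM, hπ⟩ := Desc19b.exists_epi_inAddL L hL _
        ((CochainComplex.mappingCone f).homology j).property hFT
      exact ⟨⟨M, PullPerf.isQCoh_of_finLocFree (isFinLocFree_of_inAddL hM)⟩, ObjectProperty.homMk π, hM,
        R.epi_of_epi_map (show Epi π from hπ)⟩)
  haveI := hq
  haveI : QuasiIso ((R.mapHomologicalComplex (ComplexShape.up ℤ)).map u') := inferInstance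
  refine ⟨(R.mapHomologicalComplex (ComplexShape.up ℤ)).obj E', fun i hi => ?_, fun i => hE'.2 i,
    ⟨asIso (DerivedCategory.Q.map ((R.mapHomologicalComplex (ComplexShape.up ℤ)).map u'))⟩⟩
  haveI := hiso i (by omega)
  exact R.map_isZero ((h0 i).of_iso (asIso (v.f i)).symm)

/-- Global resolution of pseudo-coherent objects. -/
theorem pseudoCoherent_resolution (hL : KSix.IsAmpleFamily L) (hX : X.IsSeparated ∨ IsNoetherian X)
    (E : DCoh.D X) (hE : ∀ k : ℤ, DCoh.IsPseudoCoherentD k E) (b : ℤ) [E.IsLE b] :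
    ∃ F : CochainComplex X.Modules ℤ, (∀ i, b < i → IsZero (F.X i)) ∧ (∀ i, KSix.InAddL L (F.X i)) ∧
      Nonempty (DCoh.toD X F ≅ E) := by
  haveI := hL.1
  obtain ⟨K, ⟨e⟩⟩ := exists_model hX (isQCohD_of_psc hE)
  obtain ⟨F, hF, hF', ⟨i⟩⟩ := exists_resolution hL K (fun m => PCTriangle.psc_iso e.symm (hE m)) b fun i hi =>
    (PCohLib.isZero_H_iff _ i).1 (((DerivedCategory.isLE_iff E b).1 inferInstance i hi).of_iso
      ((DerivedCategory.homologyFunctor _ i).mapIso e))
  exact ⟨F, hF, hF', ⟨i ≪≫ e⟩⟩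

/-- The cohomology of an object of perfect amplitude vanishes outside the range, and locally it is flat there. -/
theorem amp_charts {E : DCoh.D X} {m n : ℤ} (hE : KSix.HasPerfectAmplitudeIn m n E) (x : X) :
    ∃ (V : X.Opens), x ∈ V ∧
      DCoh.HasFlatAmplitudeIn m n ((PerfLocal.rd V.ι).obj E) := by
  obtain ⟨V, hx, hV⟩ := hE x
  obtain ⟨C, hC, hf, ⟨i⟩⟩ := hV (DerivedCategory.Q.objPreimage E) ⟨DerivedCategory.Q.objObjPreimageIso E⟩
  exact ⟨V, hx, C, hC,
    fun j => PullPerf.isFlat_of_finLocFree (hf j),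
    ⟨i.symm ≪≫ ((Scheme.Modules.restrictFunctor V.ι).mapDerivedCategoryFactors.app _).symm ≪≫
      (PerfLocal.rd V.ι).mapIso (DerivedCategory.Q.objObjPreimageIso E)⟩⟩

/-- Global resolution of perfect objects. -/
theorem perfect_resolution (hL : KSix.IsAmpleFamily L) (hX : X.IsSeparated ∨ IsNoetherian X)
    (E : DCoh.D X) (m n : ℤ) (hE : KSix.HasPerfectAmplitudeIn m n E) :
    ∃ F : CochainComplex X.Modules ℤ, DCoh.VanishesOutside F m n ∧ (∀ i : ℤ, m < i → KSix.InAddL L (F.X i)) ∧
      FlatMod.IsFinLocFree (F.X m) ∧ Nonempty (DCoh.toD X F ≅ E) := by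
  have hp : DCoh.IsPerfect E := fun x => by
    obtain ⟨V, hx, hV⟩ := hE x
    refine ⟨V, hx, fun F hF => ?_⟩
    obtain ⟨C, hC, hf, hi⟩ := hV F hF
    exact ⟨C, ⟨⟨m, n, hC⟩, hf⟩, hi⟩
  have hz : ∀ i, i < m ∨ n < i → IsZero (DCoh.HD E i) := fun i hi => by
    choose V hxV hamp using amp_charts hE
    refine DQCoh.isZero_of_restrict_cover _ V (fun x => ⟨x, hxV x⟩) fun x => ?_
    exact (DQCoh.isZero_HD_of_flatAmp (hamp x) i hi).of_iso
      (SuppOpen.hdMapIso (Scheme.Modules.restrictFunctor (V x).ι) E i).symm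
  haveI : E.IsLE n := (DerivedCategory.isLE_iff _ _).2 fun i hi => hz i (Or.inr hi)
  obtain ⟨G, hGb, hG, ⟨e⟩⟩ := pseudoCoherent_resolution hL hX E (fun k => psc_of_perfect hp k) n
  have hge : ∀ i, i < m → G.ExactAt i := fun i hi =>
    (isZero_HD_toD_iff G i).1 ((hz i (Or.inl hi)).of_iso ((DerivedCategory.homologyFunctor _ i).mapIso e))
  haveI : QuasiIso (G.πTruncGE m) := by
    haveI : G.IsGE m := (CochainComplex.isGE_iff _ _).2 hge
    infer_instance
  refine ⟨G.truncGE m, fun i hi => ?_, fun i hi => inAddL_of_iso (G.truncGEXIso m i hi).symm (hG i), ?_,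
    ⟨(asIso (DerivedCategory.Q.map (G.πTruncGE m))).symm ≪≫ e⟩⟩
  · rcases lt_or_ge i m with h | h
    · exact CochainComplex.isZero_of_isStrictlyGE _ m i h
    · rcases eq_or_lt_of_le h with h' | h'
      · subst h'
        refine IsZero.of_iso ?_ (G.truncGEXIsoOpcycles m)
        exact IsZero.of_epi (G.pOpcycles m) (hGb m (by omega))
      · exact (hGb i (by omega)).of_iso (G.truncGEXIso m i h')
  have hfl : ∀ i, FlatMod.IsFinLocFree (G.X i) := fun i => isFinLocFree_of_inAddL (hG i)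
  refine PerfTensor.isFinLocFree_of_iso ((IsColimit.coconePointUniqueUpToIso (colimit.isColimit _)
    (G.opcyclesIsCokernel (m - 1) m (by simp))) ≪≫ (G.truncGEXIsoOpcycles m).symm)
    (show FlatMod.IsFinLocFree (cokernel (G.d (m - 1) m)) from ?_)
  let K := cokernel (G.d (m - 1) m)
  haveI : Coh.IsQCoh (G.X (m - 1)) := PullPerf.isQCoh_of_finLocFree (hfl _)
  haveI : Coh.IsQCoh (G.X m) := PullPerf.isQCoh_of_finLocFree (hfl _)
  haveI : SheafOfModules.IsFinitePresentation.{u} (R := X.ringCatSheaf) (G.X (m - 1)) :=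
    Props12.isFP_of_isFinLocFree _ (hfl _)
  haveI : SheafOfModules.IsFinitePresentation.{u} (R := X.ringCatSheaf) (G.X m) :=
    Props12.isFP_of_isFinLocFree _ (hfl _)
  have hFP : CohB1.IsFP K := H8Lim.isFP_cokernel (G.d (m - 1) m)
    (inferInstanceAs (SheafOfModules.IsFiniteType.{u} (R := X.ringCatSheaf) _)) (Props12.isFP_of_isFinLocFree _ (hfl _))
  refine Props12.isFinLocFree_of_isFP_of_free_stalks _ hFP fun x => ?_
  haveI : CohB1.IsFT K := H8Lim.isFT_cokernel (G.d (m - 1) m)
    (inferInstanceAs (SheafOfModules.IsFiniteType.{u} (R := X.ringCatSheaf) _))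
  haveI := Props12.finite_stalk_of_isFT K ‹_› x
  suffices hfl' : FlatMod.IsFlatAt K x by
    haveI : Module.Flat (X.presheaf.stalk x) (K.presheaf.stalk x) := hfl'
    exact Module.free_of_flat_of_isLocalRing
  obtain ⟨V, hxV, hamp⟩ := amp_charts hE x
  obtain ⟨k, hk⟩ : ∃ k, k = V.ι := ⟨_, rfl⟩
  obtain ⟨w, rfl⟩ : ∃ w, k w = x := ⟨⟨x, hxV⟩, by rw [hk]; rfl⟩
  subst hk
  let R := Scheme.Modules.restrictFunctor V.ι
  let G' := (R.mapHomologicalComplex (ComplexShape.up ℤ)).obj G
  have hG' : ∀ i, FlatMod.IsFlat (G'.X i) := fun i =>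
    PullPerf.isFlat_of_finLocFree (PerfTensor.isFinLocFree_of_iso ((Scheme.Modules.restrictFunctorIsoPullback V.ι).app (G.X i)).symm (PullPerf.isFinLocFree_pullback V.ι (hfl i)))
  have hG'k := isKFlatFor_sheaf_of_flat G' n (fun i hi => R.map_isZero (hGb i hi)) hG'
  have hcok : FlatMod.IsFlat (cokernel (G'.d (m - 1) m)) := by
    refine isFlat_cokernel_of_exactAt G' hG' m fun M => ?_
    haveI := hasLTensorMod M
    exact (isZero_HD_ltensorMod_iff M hG'k
      ((R.mapDerivedCategoryFactors.app G).symm ≪≫ (PerfLocal.rd V.ι).mapIso e) (m - 1)).1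
      (torAmp_of_flatAmp hamp M (m - 1) (Or.inl (by omega)))
  exact FlatDesc17.isFlatAt_of_pullback V.ι K w
    (isFlat_of_iso ((PreservesCokernel.iso R (G.d (m - 1) m)).symm ≪≫
      (Scheme.Modules.restrictFunctorIsoPullback V.ι).app K) hcok w)

end Groth.Agent.AmpleRes28
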